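import Cfsg.Agent.Lib.Blocks.BrauerDegree.Rank
import Cfsg.Agent.Lib.Blocks.RankOneFrame
import Cfsg.Agent.Lib.Blocks.RegularBasis
import Cfsg.Agent.Lib.BrouePuig.Algebra
import Mathlib.RingTheory.RootsOfUnity.Complex

/-!
# Decomposition numbers and Brauer characters through idempotents

The decomposition number of a character at a simple module is the value of the character at a lifted
primitive idempotent.  The Brauer character of the simple module at a regular element `y` is read off
from the ranks of the reduced idempotents of the cyclic group generated by `y`.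
-/

set_option autoImplicit false
set_option linter.unusedSectionVars false
set_option maxHeartbeats 1000000
set_option synthInstance.maxHeartbeats 200000

namespace CfsgLib.Blocks.BrauerDegree

open Cfsg CfsgLib.Blocks CfsgLib.Blocks.ResidueAlgebra CfsgLib.Blocks.TwoCharacters CfsgLib.BrouePuig
open scoped Classical

universe u

variable {p : ℕ} {M : Ideal AlgInt} {hM : IsPModular p M} {G : Type u} [Group G] [Fintype G]

/-- A split semisimple quotient of the group algebra over the residue field, with lifted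
primitive idempotents. -/
structure Dec (hM : IsPModular p M) (G : Type u) [Group G] [Fintype G] where
  r : ℕ
  d : Fin r → ℕ
  [dne : ∀ i, NeZero (d i)]
  π : KAlg hM G →ₐ[Residue hM] Π i, Matrix (Fin (d i)) (Fin (d i)) (Residue hM)
  surj : Function.Surjective π
  N : ℕ
  nil : (LinearMap.ker π.toLinearMap) ^ N = ⊥
  E : Fin r → LAlg hM G
  idemE : ∀ i, IsIdempotentElem (E i)
  hπE : ∀ i, π (red hM (E i)) = Pi.single i (Matrix.single 0 0 1)

attribute [instance] Dec.dne

variable (hM G) in
theorem nonempty_dec : Nonempty (Dec hM G) := by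
  haveI := TwoCharacters.isAlgClosed_residue hM
  obtain ⟨r, d, hd, π, hπ, N, hN⟩ := exists_split (Residue hM) (KAlg hM G)
  haveI := hd
  obtain ⟨E, hE, hπE⟩ := exists_units hπ hN
  choose a ha hae _ using fun i => exists_lift_idem hM (hE i)
  exact ⟨⟨r, d, π, hπ, N, hN, a, ha, fun i => by rw [hae, hπE]⟩⟩

/-- The trace of an idempotent matrix is its rank. -/
theorem trace_eq_rank {k : Type*} [Field k] {m : ℕ} {P : Matrix (Fin m) (Fin m) k} (hP : P * P = P) :
    P.trace = (P.rank : k) := by
  obtain ⟨X, Y, hXY, hYX, -, -⟩ := exists_factor_idem hP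
  calc P.trace = (X * Y).trace := by rw [hXY]
    _ = (1 : Matrix (Fin P.rank) (Fin P.rank) k).trace := by rw [Matrix.trace_mul_comm, hYX]
    _ = (P.rank : k) := by rw [Matrix.trace_one, Fintype.card_fin]

theorem rank_single {k : Type*} [Field k] {m : ℕ} [NeZero m] :
    (Matrix.single (0 : Fin m) (0 : Fin m) (1 : k)).rank = 1 := by
  refine le_antisymm ?_ (Nat.one_le_iff_ne_zero.2 fun h => ?_)
  · have e : Matrix.single (0 : Fin m) (0 : Fin m) (1 : k) = Matrix.vecMulVec (Pi.single 0 1) (Pi.single 0 1) := by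
      ext u v
      rw [Matrix.vecMulVec_apply, Matrix.single_apply, Pi.single_apply, Pi.single_apply]
      by_cases hu : u = 0 <;> by_cases hv : v = 0 <;> simp [hu, hv, eq_comm]
    rw [e]
    exact Matrix.rank_vecMulVec_le _ _
  · rw [Matrix.rank, Submodule.finrank_eq_zero, LinearMap.range_eq_bot] at h
    have := congrFun (LinearMap.congr_fun h (Pi.single 0 1)) 0
    simp at this

theorem single_sum' {R H ι : Type*} [Semiring R] (h : H) (s : Finset ι) (f : ι → R) :
    MonoidAlgebra.single h (∑ i ∈ s, f i) = ∑ i ∈ s, MonoidAlgebra.single h (f i) :=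
  map_sum (MonoidAlgebra.singleAddHom h) f s

theorem val_smul (χ : IrrCharacter G) (c : localSubring hM) (a : LAlg hM G) :
    val hM χ (c • a) = (c : ℂ) * val hM χ a := by
  simp only [val, Finset.mul_sum, MonoidAlgebra.coeff_smul, Finsupp.smul_apply, smul_eq_mul,
    MulMemClass.coe_mul, mul_assoc]

theorem val_sum {ι : Type*} (χ : IrrCharacter G) (s : Finset ι) (a : ι → LAlg hM G) :
    val hM χ (∑ i ∈ s, a i) = ∑ i ∈ s, val hM χ (a i) :=
  map_sum (⟨⟨val hM χ, val_zero hM χ⟩, val_add hM χ⟩ : LAlg hM G →+ ℂ) a s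

theorem val_single (χ : IrrCharacter G) (g : G) (c : localSubring hM) :
    val hM χ (MonoidAlgebra.single g c) = (c : ℂ) * (χ : G → ℂ) g := by
  rw [val, Finset.sum_eq_single g]
  · simp
  · intro h _ hne; simp [Finsupp.single_apply, Ne.symm hne]
  · simp

variable (hM) in
/-- The reduction of a lattice representation. -/
theorem exists_red_rep (χ : IrrCharacter G) :
    ∃ (n : ℕ) (ρ : KAlg hM G →ₐ[Residue hM] Matrix (Fin n) (Fin n) (Residue hM)),
      ∀ a : LAlg hM G, IsIdempotentElem a → val hM χ a = ((ρ (red hM a)).rank : ℂ) := by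
  obtain ⟨n, S, hS, hχ⟩ := RankOneFrame.exists_lattice_rep hM χ
  let S0 : G →* Matrix (Fin n) (Fin n) (localSubring hM) :=
    { toFun := fun g i j => ⟨S g i j, hS g i j⟩
      map_one' := by
        refine (Matrix.map_injective (f := ⇑(localSubring hM).subtype) Subtype.val_injective) ?_
        show S 1 = ((localSubring hM).subtype).mapMatrix 1
        rw [map_one, map_one]
      map_mul' := fun g h => by
        refine (Matrix.map_injective (f := ⇑(localSubring hM).subtype) Subtype.val_injective) ?_
        show S (g * h) = ((localSubring hM).subtype).mapMatrix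
          (Matrix.of (fun i j => (⟨S g i j, hS g i j⟩ : localSubring hM)) *
            Matrix.of fun i j => (⟨S h i j, hS h i j⟩ : localSubring hM))
        rw [map_mul, map_mul]
        rfl }
  let A := MonoidAlgebra.lift (localSubring hM) (Matrix (Fin n) (Fin n) (localSubring hM)) G S0
  let μ := (Ideal.Quotient.mk (localMaxIdeal hM)).mapMatrix (m := Fin n)
  let ρ := MonoidAlgebra.lift (Residue hM) (Matrix (Fin n) (Fin n) (Residue hM)) G
    (μ.toMonoidHom.comp S0)
  refine ⟨n, ρ, fun a ha => ?_⟩
  have hred : ρ (red hM a) = μ (A a) := by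
    conv_lhs => rw [eq_sum_single a]
    conv_rhs => rw [eq_sum_single a]
    simp only [map_sum]
    refine Finset.sum_congr rfl fun g _ => ?_
    simp only [ρ, A, red, MonoidAlgebra.mapRingHom_single, MonoidAlgebra.lift_single]
    ext i j
    simp [μ, Matrix.map_apply]
  set Q : Matrix (Fin n) (Fin n) ℂ := (localSubring hM).subtype.mapMatrix (A a) with hQ
  have hid : Q * Q = Q := by rw [hQ, ← map_mul, ← map_mul, ha.eq]
  have htr : Q.trace = val hM χ a := by
    rw [hQ, eq_sum_single a, val_sum]
    simp only [map_sum, A, MonoidAlgebra.lift_single, Matrix.trace_sum]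
    refine Finset.sum_congr rfl fun g _ => ?_
    rw [val_single, hχ]
    simp [Matrix.trace, Finset.mul_sum, S0]
    rfl
  rw [← htr, ← rank_resid_eq hM Q (fun i j => (A a i j).2) hid, hred]
  congr 2
  ext i j
  exact resid_mk hM _

variable (D : Dec hM G)

/-- The multiplicity of a simple module in the reduction of a character. -/
theorem exists_mult (χ : IrrCharacter G) (i : Fin D.r) : ∃ n : ℕ, val hM χ (D.E i) = n := by
  obtain ⟨n, ρ, h⟩ := exists_red_rep hM χ
  exact ⟨_, h _ (D.idemE i)⟩

/-- The decomposition numbers. -/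
noncomputable def mult (χ : IrrCharacter G) (i : Fin D.r) : ℕ :=
  Classical.choose (exists_mult D χ i)

theorem val_E (χ : IrrCharacter G) (i : Fin D.r) : val hM χ (D.E i) = (mult D χ i : ℂ) :=
  Classical.choose_spec (exists_mult D χ i)

/-- The value of a character at an idempotent. -/
theorem val_idem (χ : IrrCharacter G) {a : LAlg hM G} (ha : IsIdempotentElem a) :
    val hM χ a = ∑ i, ((D.π (red hM a) i).rank : ℂ) * (mult D χ i : ℂ) := by
  obtain ⟨n, ρ, h⟩ := exists_red_rep hM χ
  rw [h a ha, rank_eq D.surj D.nil ρ (fun i => (D.idemE i).map (red hM)) D.hπE (ha.map (red hM)),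
    Nat.cast_sum]
  refine Finset.sum_congr rfl fun i _ => ?_
  rw [Nat.cast_mul, ← val_E, h _ (D.idemE i)]

theorem apply_one_eq (χ : IrrCharacter G) :
    (χ : G → ℂ) 1 = ∑ i, (D.d i : ℂ) * (mult D χ i : ℂ) := by
  have h := val_idem D χ IsIdempotentElem.one
  rw [MonoidAlgebra.one_def, val_single] at h
  rw [← MonoidAlgebra.one_def] at h
  simpa [Matrix.rank_one] using h

/-! ### The cyclic idempotents -/

/-- The standard primitive root of unity. -/
noncomputable def zeta (o : ℕ) : ℂ := Complex.exp (2 * Real.pi * Complex.I / o)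

theorem zeta_prim {o : ℕ} (ho : o ≠ 0) : IsPrimitiveRoot (zeta o) o :=
  Complex.isPrimitiveRoot_exp o ho

theorem zeta_inv_LR (hM : IsPModular p M) {o : ℕ} (ho : o ≠ 0) (m : ℕ) :
    MemLocalRing M ((zeta o)⁻¹ ^ m) :=
  LR.pow hM (LR.of_isIntegral hM (IsIntegral.of_pow (Nat.pos_of_ne_zero ho)
    (by rw [inv_pow, (zeta_prim ho).pow_eq_one, inv_one]; exact isIntegral_one))) m

theorem orderOf_inv_LR (hM : IsPModular p M) {y : G} (hy : IsPRegular p y) :
    MemLocalRing M ((orderOf y : ℂ)⁻¹) :=
  LR.inv hM (LR.natCast hM _) fun h => hy ((LI.natCast_iff hM _).1 h)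

/-- The coefficients of the cyclic idempotents. -/
noncomputable def cycC (hM : IsPModular p M) {y : G} (hy : IsPRegular p y) (j l : ℕ) :
    localSubring hM :=
  ⟨(orderOf y : ℂ)⁻¹ * (zeta (orderOf y))⁻¹ ^ (j * l),
    LR.mul hM (orderOf_inv_LR hM hy) (zeta_inv_LR hM (orderOf_pos y).ne' _)⟩

/-- The idempotent of `⟨y⟩` belonging to the `j`th power of the primitive root. -/
noncomputable def cyc (hM : IsPModular p M) {y : G} (hy : IsPRegular p y) (j : ℕ) : LAlg hM G :=
  ∑ l ∈ Finset.range (orderOf y), MonoidAlgebra.single (y ^ l) (cycC hM hy j l)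

/-- The primitive root in the local ring. -/
noncomputable def zetaO (hM : IsPModular p M) {y : G} (_hy : IsPRegular p y) : localSubring hM :=
  ⟨zeta (orderOf y), LR.of_isIntegral hM (IsIntegral.of_pow (orderOf_pos y)
    (by rw [(zeta_prim (orderOf_pos y).ne').pow_eq_one]; exact isIntegral_one))⟩

variable {y : G} (hy : IsPRegular p y)

theorem cycC_succ (j l : ℕ) : cycC hM hy j l = zetaO hM hy ^ j * cycC hM hy j (l + 1) := by
  refine Subtype.ext ?_
  simp only [cycC, zetaO, MulMemClass.coe_mul, SubmonoidClass.coe_pow]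
  rw [mul_add, mul_one, pow_add, mul_comm ((zeta (orderOf y)) ^ j), mul_assoc, mul_assoc, ← mul_pow,
    inv_mul_cancel₀ ((zeta_prim (orderOf_pos y).ne').ne_zero (orderOf_pos y).ne'), one_pow, mul_one]

theorem cycC_period (j : ℕ) : cycC hM hy j (orderOf y) = cycC hM hy j 0 := by
  refine Subtype.ext ?_
  simp only [cycC]
  rw [mul_comm j, pow_mul, inv_pow, (zeta_prim (orderOf_pos y).ne').pow_eq_one, inv_one, one_pow,
    mul_zero, pow_zero]

theorem cyc_mul_single (j : ℕ) :
    cyc hM hy j * MonoidAlgebra.single y 1 = zetaO hM hy ^ j • cyc hM hy j := by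
  have h0 := Finset.sum_range_succ'
    (fun l => MonoidAlgebra.single (y ^ l) (cycC hM hy j l)) (orderOf y)
  rw [Finset.sum_range_succ (fun l => MonoidAlgebra.single (y ^ l) (cycC hM hy j l)) (orderOf y),
    cycC_period, pow_orderOf_eq_one, pow_zero, add_left_inj] at h0
  conv_rhs => rw [cyc, h0, Finset.smul_sum]
  rw [cyc, Finset.sum_mul]
  refine Finset.sum_congr rfl fun l _ => ?_
  rw [MonoidAlgebra.single_mul_single, mul_one, ← pow_succ, MonoidAlgebra.smul_single, smul_eq_mul,
    ← cycC_succ]

theorem cyc_mul_pow (j l : ℕ) :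
    cyc hM hy j * MonoidAlgebra.single (y ^ l) 1 = zetaO hM hy ^ (j * l) • cyc hM hy j := by
  induction l with
  | zero => simp [← MonoidAlgebra.one_def]
  | succ l ih =>
    rw [pow_succ, show MonoidAlgebra.single (y ^ l * y) (1 : localSubring hM)
      = MonoidAlgebra.single (y ^ l) 1 * MonoidAlgebra.single y 1 by
        rw [MonoidAlgebra.single_mul_single, one_mul], ← mul_assoc, ih, smul_mul_assoc,
      cyc_mul_single, smul_smul, ← pow_add, mul_add, mul_one]

theorem cyc_idem (j : ℕ) : IsIdempotentElem (cyc hM hy j) := by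
  show cyc hM hy j * cyc hM hy j = cyc hM hy j
  conv_lhs => arg 2; rw [cyc]
  rw [Finset.mul_sum]
  have e : ∀ l, cyc hM hy j * MonoidAlgebra.single (y ^ l) (cycC hM hy j l)
      = (cycC hM hy j l * zetaO hM hy ^ (j * l)) • cyc hM hy j := by
    intro l
    rw [show MonoidAlgebra.single (y ^ l) (cycC hM hy j l)
      = cycC hM hy j l • MonoidAlgebra.single (y ^ l) (1 : localSubring hM) by simp,
      mul_smul_comm, cyc_mul_pow, smul_smul]
  rw [Finset.sum_congr rfl fun l _ => e l, ← Finset.sum_smul]
  convert one_smul (localSubring hM) (cyc hM hy j)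
  refine Subtype.ext ?_
  simp only [cycC, zetaO, AddSubmonoidClass.coe_finsetSum, MulMemClass.coe_mul, SubmonoidClass.coe_pow,
    OneMemClass.coe_one, mul_assoc, ← mul_pow]
  rw [inv_mul_cancel₀ ((zeta_prim (orderOf_pos y).ne').ne_zero (orderOf_pos y).ne')]
  simp [(orderOf_pos y).ne']

theorem sum_cyc : ∑ j ∈ Finset.range (orderOf y), zetaO hM hy ^ j • cyc hM hy j
    = MonoidAlgebra.single y 1 := by
  set o := orderOf y with ho
  have ho0 : o ≠ 0 := (orderOf_pos y).ne'
  have hz := zeta_prim ho0
  simp only [cyc, Finset.smul_sum, MonoidAlgebra.smul_single, smul_eq_mul]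
  rw [Finset.sum_comm, Finset.sum_eq_single (1 % o)]
  · rw [← single_sum']
    congr 1
    · rw [ho, pow_mod_orderOf, pow_one]
    · refine Subtype.ext ?_
      simp only [cycC, zetaO, AddSubmonoidClass.coe_finsetSum, MulMemClass.coe_mul,
        SubmonoidClass.coe_pow, OneMemClass.coe_one, ← ho]
      rw [Finset.sum_congr rfl (g := fun _ => (o : ℂ)⁻¹) fun j _ => ?_, Finset.sum_const,
        Finset.card_range, nsmul_eq_mul, mul_inv_cancel₀ (Nat.cast_ne_zero.2 ho0)]
      rw [mul_left_comm, mul_comm j, pow_mul, inv_pow, ← pow_eq_pow_mod 1 hz.pow_eq_one, pow_one,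
        ← mul_pow, mul_inv_cancel₀ (hz.ne_zero ho0), one_pow, mul_one]
  · intro l hl hne
    rw [← single_sum']
    convert MonoidAlgebra.single_zero (y ^ l) using 2
    refine Subtype.ext ?_
    simp only [cycC, zetaO, AddSubmonoidClass.coe_finsetSum, MulMemClass.coe_mul,
      SubmonoidClass.coe_pow, ZeroMemClass.coe_zero, ← ho]
    rw [Finset.sum_congr rfl (g := fun j => (o : ℂ)⁻¹ * (zeta o * (zeta o)⁻¹ ^ l) ^ j) fun j _ => by
      rw [mul_pow, ← pow_mul, mul_comm l]; ring]
    rw [← Finset.mul_sum, geom_sum_eq, mul_pow, hz.pow_eq_one, ← pow_mul, mul_comm l, pow_mul, inv_pow,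
      hz.pow_eq_one, inv_one, one_pow, mul_one, sub_self, zero_div, mul_zero]
    intro h
    rw [inv_pow, mul_inv_eq_one₀ (pow_ne_zero _ (hz.ne_zero ho0))] at h
    refine hne ?_
    have h2 : (zeta o) ^ (1 % o) = (zeta o) ^ l := by rwa [← pow_eq_pow_mod 1 hz.pow_eq_one, pow_one]
    exact (hz.pow_inj (Nat.mod_lt _ (Nat.pos_of_ne_zero ho0)) (Finset.mem_range.1 hl) h2).symm
  · exact fun h => absurd (Finset.mem_range.2 (Nat.mod_lt _ (Nat.pos_of_ne_zero ho0))) h

/-- The Brauer character of a simple module. -/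
noncomputable def phi (i : Fin D.r) (y : G) : ℂ :=
  if hy : IsPRegular p y then
    ∑ j ∈ Finset.range (orderOf y), zeta (orderOf y) ^ j * ((D.π (red hM (cyc hM hy j)) i).rank : ℂ)
  else 0

/-- Characters on regular elements are combinations of Brauer characters. -/
theorem apply_eq_sum_phi (χ : IrrCharacter G) {y : G} (hy : IsPRegular p y) :
    (χ : G → ℂ) y = ∑ i, (mult D χ i : ℂ) * phi D i y := by
  have h := congrArg (val hM χ) (sum_cyc (hM := hM) hy)
  rw [val_single, OneMemClass.coe_one, one_mul, val_sum] at h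
  rw [← h]
  simp only [val_smul, val_idem D χ (cyc_idem hy _), phi, dif_pos hy, Finset.mul_sum]
  rw [Finset.sum_comm]
  refine Finset.sum_congr rfl fun i _ => Finset.sum_congr rfl fun j _ => ?_
  simp only [zetaO, SubmonoidClass.coe_pow]
  ring

theorem phi_LR (i : Fin D.r) (y : G) : MemLocalRing M (phi D i y) := by
  unfold phi
  split
  · exact LR.sum hM fun j _ => LR.mul hM (zetaO hM (by assumption) ^ j).2 (LR.natCast hM _)
  · exact LR.zero hM

/-- Modulo the maximal ideal a Brauer character is the trace. -/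
theorem resid_phi (i : Fin D.r) {y : G} (hy : IsPRegular p y) :
    resid hM (phi D i y) = (D.π (MonoidAlgebra.single y 1) i).trace := by
  rw [← red_single hM y, ← sum_cyc (hM := hM) hy, map_sum]
  simp only [red_smul, map_sum, map_smul, Finset.sum_apply, Pi.smul_apply, Matrix.trace_sum,
    Matrix.trace_smul, smul_eq_mul, phi, dif_pos hy]
  rw [resid_sum hM (f := fun j => zeta (orderOf y) ^ j * ((D.π (red hM (cyc hM hy j)) i).rank : ℂ)) _
    fun j _ => LR.mul hM (zetaO hM hy ^ j).2 (LR.natCast hM _)]
  refine Finset.sum_congr rfl fun j _ => ?_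
  rw [show zeta (orderOf y) ^ j = ((zetaO hM hy ^ j : localSubring hM) : ℂ) from rfl,
    resid_mul hM (zetaO hM hy ^ j).2 (LR.natCast hM _), resid_natCast hM,
    trace_eq_rank (by rw [← Pi.mul_apply, ← map_mul, ← map_mul, (cyc_idem hy j).eq])]
  congr 1
  exact resid_mk hM (zetaO hM hy ^ j)

/-- A Brauer character is a class function. -/
theorem phi_conj (i : Fin D.r) (y g : G) : phi D i (g * y * g⁻¹) = phi D i y := by
  have ho : orderOf (g * y * g⁻¹) = orderOf y := (MulAut.conj g).orderOf_eq y
  by_cases hy : IsPRegular p y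
  · have hy' : IsPRegular p (g * y * g⁻¹) := by
      show ¬ p ∣ orderOf (g * y * g⁻¹)
      rwa [ho]
    simp only [phi, dif_pos hy, dif_pos hy', ho]
    refine Finset.sum_congr rfl fun j _ => congrArg (fun z : ℕ => zeta _ ^ j * (z : ℂ)) ?_
    have e : cyc hM hy' j
        = MonoidAlgebra.single g 1 * cyc hM hy j * MonoidAlgebra.single g⁻¹ 1 := by
      simp only [cyc, ho, Finset.mul_sum, Finset.sum_mul, MonoidAlgebra.single_mul_single, one_mul,
        mul_one, conj_pow]
      refine Finset.sum_congr rfl fun l _ => ?_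
      congr 1
      exact Subtype.ext (by simp only [cycC, ho])
    rw [e, map_mul (red hM), map_mul (red hM), red_single, red_single, map_mul, map_mul, Pi.mul_apply,
      Pi.mul_apply]
    have hu : ∀ z : G, IsUnit (D.π (MonoidAlgebra.single z 1) i).det := fun z => by
      refine IsUnit.of_mul_eq_one (D.π (MonoidAlgebra.single z⁻¹ 1) i).det ?_
      rw [← Matrix.det_mul, ← Pi.mul_apply, ← map_mul, MonoidAlgebra.single_mul_single, one_mul,
        mul_inv_cancel, ← MonoidAlgebra.one_def, map_one, Pi.one_apply, Matrix.det_one]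
    rw [Matrix.rank_mul_eq_left_of_isUnit_det _ _ (hu g⁻¹),
      Matrix.rank_mul_eq_right_of_isUnit_det _ _ (hu g)]
  · have hy' : ¬ IsPRegular p (g * y * g⁻¹) := fun h => hy (by
      have : ¬ p ∣ orderOf (g * y * g⁻¹) := h
      rwa [ho] at this)
    simp only [phi, dif_neg hy, dif_neg hy']

theorem phi_one (i : Fin D.r) : phi D i 1 = (D.d i : ℂ) := by
  have h1 : IsPRegular p (1 : G) := by
    show ¬ p ∣ orderOf (1 : G)
    rw [orderOf_one]
    exact hM.1.not_dvd_one
  simp only [phi, dif_pos h1, cyc, orderOf_one, Finset.range_one, Finset.sum_singleton, pow_zero,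
    one_mul]
  have : MonoidAlgebra.single (1 : G) (cycC hM h1 0 0) = 1 := by
    rw [MonoidAlgebra.one_def]
    congr 1
    exact Subtype.ext (by simp [cycC])
  rw [this, map_one, map_one, Pi.one_apply, Matrix.rank_one, Fintype.card_fin]

end CfsgLib.Blocks.BrauerDegree
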