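import Cfsg.Agent.Lib.Blocks.BrauerDegree.Surj
import Cfsg.Agent.Lib.Blocks.Defect2
import Cfsg.Agent.Lib.Blocks.Defect

/-!
# The sum of the squares of the degrees in a block
-/

set_option autoImplicit false
set_option linter.unusedSectionVars false
set_option maxHeartbeats 1000000
set_option synthInstance.maxHeartbeats 200000

namespace CfsgLib.Blocks.BrauerDegree

open Cfsg CfsgLib.Blocks CfsgLib.Blocks.ResidueAlgebra CfsgLib.Blocks.TwoCharacters CfsgLib.BrouePuig
open scoped Classical

universe u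

variable {p : ℕ} [Fact p.Prime] {M : Ideal AlgInt} {hM : IsPModular p M} {G : Type u} [Group G]
  [Fintype G] (D : Dec hM G) {B : Set (IrrCharacter G)} (hB : IsPBlock M B)

include hB

/-- The regular rank is at most the number of simple modules of the block. -/
theorem blockRank_le_card :
    blockRank p B ≤ (Finset.univ.filter fun i => D.π (idem hM B) i = 1).card := by
  set I := Finset.univ.filter fun i => D.π (idem hM B) i = 1 with hI
  rw [blockRank]
  refine (Submodule.finrank_mono (t := Submodule.span ℂ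
    (Set.range fun i : I => pRegularPart p (phi D i))) (Submodule.span_le.2 ?_)).trans ?_
  · rintro _ ⟨χ, hχ, rfl⟩
    have e : pRegularPart p (χ : G → ℂ) = ∑ i : I, (mult D χ i : ℂ) • pRegularPart p (phi D i) := by
      funext y
      simp only [Finset.sum_apply, Pi.smul_apply, smul_eq_mul, pRegularPart_apply]
      by_cases hy : IsPRegular p y
      · simp only [if_pos hy]
        rw [apply_eq_sum_phi D χ hy, Finset.sum_coe_sort I (fun i => (mult D χ i : ℂ) * phi D i y)]
        refine (Finset.sum_subset (Finset.subset_univ _) fun i _ hi => ?_).symm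
        rw [mult_eq_zero D hB χ i fun hiff => hi (Finset.mem_filter.2 ⟨Finset.mem_univ _, hiff.1 hχ⟩),
          Nat.cast_zero, zero_mul]
      · simp [if_neg hy]
    show pRegularPart p (χ : G → ℂ) ∈ _
    rw [e]
    exact sum_mem fun i _ => Submodule.smul_mem _ _ (Submodule.subset_span ⟨i, rfl⟩)
  · refine (finrank_range_le_card (R := ℂ) (fun i : I => pRegularPart p (phi D i))).trans ?_
    rw [Fintype.card_coe]

/-- Degrees of projective covers in a block only involve its characters. -/
theorem theta_one_eq {i : Fin D.r} (hi : D.π (idem hM B) i = 1) :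
    ∑ χ : IrrCharacter G, mult D χ i * charDegree (χ : G → ℂ)
      = ∑ χ ∈ B.toFinset, mult D χ i * charDegree (χ : G → ℂ) :=
  (Finset.sum_subset (Finset.subset_univ _) fun χ _ hχ => by
    rw [mult_eq_zero D hB χ i fun hiff => hχ (Set.mem_toFinset.2 (hiff.2 hi)), zero_mul]).symm

theorem sum_sq_eq :
    ∑ χ ∈ B.toFinset, charDegree (χ : G → ℂ) ^ 2
      = ∑ i ∈ Finset.univ.filter (fun i => D.π (idem hM B) i = 1),
          D.d i * ∑ χ : IrrCharacter G, mult D χ i * charDegree (χ : G → ℂ) := by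
  set I := Finset.univ.filter fun i => D.π (idem hM B) i = 1
  have hdeg : ∀ χ ∈ B.toFinset, charDegree (χ : G → ℂ) = ∑ i ∈ I, D.d i * mult D χ i := fun χ hχ => by
    have h := apply_one_eq D χ
    rw [irr_one_eq] at h
    have h' : charDegree (χ : G → ℂ) = ∑ i, D.d i * mult D χ i := by exact_mod_cast h
    rw [h']
    refine (Finset.sum_subset (Finset.subset_univ _) fun i _ hi => ?_).symm
    rw [mult_eq_zero D hB χ i fun hiff =>
      hi (Finset.mem_filter.2 ⟨Finset.mem_univ _, hiff.1 (Set.mem_toFinset.1 hχ)⟩), mul_zero]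
  rw [Finset.sum_congr rfl (g := fun i => D.d i * ∑ χ ∈ B.toFinset, mult D χ i * charDegree (χ : G → ℂ))
    (s₂ := I) fun i hi => by rw [theta_one_eq D hB (Finset.mem_filter.1 hi).2]]
  simp only [Finset.mul_sum]
  rw [Finset.sum_comm]
  refine Finset.sum_congr rfl fun χ hχ => ?_
  simp only [← mul_assoc, ← Finset.sum_mul, ← hdeg χ hχ, sq]

omit D in
/-- The factorization of the sum of the squares of the degrees in a block. -/
theorem exists_factorization (hM : IsPModular p M) {Df : Subgroup G} (hD : IsDefectGroup p M B Df)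
    {a d g : ℕ} (ha : (Nat.card G).factorization p = a) (hd : Nat.card Df = p ^ d)
    (hg1 : ∀ χ ∈ B, g ∣ charDegree (χ : G → ℂ))
    (hg2 : ∀ g' : ℕ, (∀ χ ∈ B, g' ∣ charDegree (χ : G → ℂ)) → g' ∣ g) :
    g.factorization p = a - d ∧ ∃ v : ℕ, 0 < v ∧ ¬ p ∣ v ∧ blockRank p B ≤ v ∧
      ∑ χ ∈ B.toFinset, charDegree (χ : G → ℂ) ^ 2 = p ^ (2 * a - d) * (g / p ^ (a - d)) ^ 2 * v := by
  have hp : p.Prime := Fact.out
  have hne := IsPBlock.nonempty hM hB
  have hdd : d = blockDefect p B :=
    Nat.pow_right_injective hp.two_le (hd.symm.trans (card_defectGroup hM hB hD))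
  have hadd := blockDefect_add_min (p := p) hne
  have hda : d ≤ a := by omega
  have hg0 : g ≠ 0 := fun h => by
    obtain ⟨χ, hχ⟩ := hne
    exact (charDegree_pos χ).ne' (Nat.eq_zero_of_zero_dvd (h ▸ hg1 χ hχ))
  have hfac : g.factorization p = a - d := by
    obtain ⟨χ, hχ, hmin⟩ := exists_degVal_eq_min (p := p) hne
    refine le_antisymm ?_ ?_
    · have h := (Nat.factorization_le_iff_dvd hg0 (charDegree_pos χ).ne').2 (hg1 χ hχ) p
      simp only [degVal] at hmin
      omega
    · refine (hp.pow_dvd_iff_le_factorization hg0).1 (hg2 _ fun ψ hψ => ?_)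
      refine (hp.pow_dvd_iff_le_factorization (charDegree_pos ψ).ne').2 ?_
      have h := minDegVal_le (p := p) hψ
      simp only [degVal] at h
      omega
  refine ⟨hfac, ?_⟩
  obtain ⟨D⟩ := nonempty_dec hM G
  set P := p ^ (a - d) with hP
  set u := g / P with hu
  have hgu : P * u = g := Nat.mul_div_cancel' (by rw [hP, ← hfac]; exact Nat.ordProj_dvd g p)
  have hucop : Nat.Coprime (p ^ a) u := by
    rw [hu, hP, ← hfac]
    exact Nat.Coprime.pow_left _ (Nat.coprime_ordCompl hp hg0)
  set I := Finset.univ.filter fun i => D.π (idem hM B) i = 1 with hI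
  let Φ : Fin D.r → ℕ := fun i => ∑ χ : IrrCharacter G, mult D χ i * charDegree (χ : G → ℂ)
  have hd1 : ∀ i ∈ I, P * u ∣ D.d i := fun i hi =>
    hgu ▸ dvd_dim D hB (Finset.mem_filter.1 hi).2 hg1
  have hd2 : ∀ i ∈ I, p ^ a * u ∣ Φ i := fun i hi => by
    refine Nat.Coprime.mul_dvd_of_dvd_of_dvd hucop (ha ▸ pPow_dvd_theta_one D i) ?_
    show u ∣ ∑ χ : IrrCharacter G, mult D χ i * charDegree (χ : G → ℂ)
    rw [theta_one_eq D hB (Finset.mem_filter.1 hi).2]
    exact Finset.dvd_sum fun χ hχ => Dvd.dvd.mul_left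
      ((Dvd.intro_left P hgu).trans (hg1 χ (Set.mem_toFinset.1 hχ))) _
  choose! s hs using hd1
  choose! t ht using hd2
  have hpos : ∀ i ∈ I, 1 ≤ s i * t i := fun i hi => by
    refine Nat.mul_pos (Nat.pos_of_ne_zero fun h => ?_) (Nat.pos_of_ne_zero fun h => ?_)
    · exact NeZero.ne (D.d i) (by rw [hs i hi, h, mul_zero])
    · exact (theta_one_pos D i).ne' (by show Φ i = 0; rw [ht i hi, h, mul_zero])
  have hsum : ∑ χ ∈ B.toFinset, charDegree (χ : G → ℂ) ^ 2
      = p ^ (2 * a - d) * u ^ 2 * ∑ i ∈ I, s i * t i := by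
    rw [sum_sq_eq D hB, Finset.mul_sum]
    refine Finset.sum_congr rfl fun i hi => ?_
    show D.d i * Φ i = _
    rw [hs i hi, ht i hi, hP, show 2 * a - d = (a - d) + a by omega, pow_add]
    ring
  have hS0 : 0 < ∑ χ ∈ B.toFinset, charDegree (χ : G → ℂ) ^ 2 := by
    obtain ⟨χ, hχ⟩ := hne
    exact Finset.sum_pos' (fun _ _ => Nat.zero_le _)
      ⟨χ, Set.mem_toFinset.2 hχ, pow_pos (charDegree_pos χ) 2⟩
  set v := ∑ i ∈ I, s i * t i
  refine ⟨v, Nat.pos_of_ne_zero fun h => ?_, fun hv => ?_, ?_, hsum⟩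
  · rw [hsum, h, mul_zero] at hS0
    exact lt_irrefl 0 hS0
  · have h := factorization_sum_sq hM hB
    rw [ha, ← hdd] at h
    have hdvd : p ^ (2 * a - d + 1) ∣ ∑ χ ∈ B.toFinset, charDegree (χ : G → ℂ) ^ 2 := by
      rw [hsum, pow_succ, mul_assoc _ (u ^ 2)]
      exact mul_dvd_mul_left _ (hv.mul_left _)
    have h1 := (hp.pow_dvd_iff_le_factorization hS0.ne').1 hdvd
    omega
  · refine (blockRank_le_card D hB).trans ?_
    rw [Finset.card_eq_sum_ones]
    exact Finset.sum_le_sum hpos

end CfsgLib.Blocks.BrauerDegree
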