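import Cfsg.Agent.Lib.Blocks.BrauerDegree.Projective

/-!
# Groups of order prime to `p`

There every Brauer character is an ordinary character, and Brauer characters restrict to natural
combinations of Brauer characters.
-/

set_option autoImplicit false
set_option linter.unusedSectionVars false
set_option maxHeartbeats 1000000
set_option synthInstance.maxHeartbeats 200000

namespace CfsgLib.Blocks.BrauerDegree

open Cfsg CfsgLib.Blocks CfsgLib.Blocks.ResidueAlgebra CfsgLib.Blocks.TwoCharacters CfsgLib.BrouePuig
open scoped Classical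

universe u v

variable {p : ℕ} {M : Ideal AlgInt} {hM : IsPModular p M} {G : Type u} [Group G] [Fintype G]

/-- The projection to one component. -/
noncomputable def compHom (D : Dec hM G) (i : Fin D.r) :
    KAlg hM G →ₐ[Residue hM] Matrix (Fin (D.d i)) (Fin (D.d i)) (Residue hM) :=
  (Pi.evalAlgHom (Residue hM) (fun j => Matrix (Fin (D.d j)) (Fin (D.d j)) (Residue hM)) i).comp D.π

/-- A Brauer character pulls back to a natural combination of Brauer characters. -/
theorem phi_comap {H : Type v} [Group H] [Fintype H] (DH : Dec hM H) (D : Dec hM G) (f : H →* G)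
    (hf : Function.Injective f) (i : Fin D.r) :
    ∃ c : Fin DH.r → ℕ, ∀ y : H, IsPRegular p y →
      phi D i (f y) = ∑ j, (c j : ℂ) * phi DH j y := by
  let ι := MonoidAlgebra.mapDomainAlgHom (Residue hM) (Residue hM) f
  let ρ : KAlg hM H →ₐ[Residue hM] Matrix (Fin (D.d i)) (Fin (D.d i)) (Residue hM) :=
    (compHom D i).comp ι
  refine ⟨fun j => (ρ (red hM (DH.E j))).rank, fun y hy => ?_⟩
  have ho : orderOf (f y) = orderOf y := orderOf_injective f hf y
  have hfy : IsPRegular p (f y) := by
    show ¬ p ∣ orderOf (f y)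
    rwa [ho]
  have hmap : ∀ j, red hM (cyc hM hfy j) = ι (red hM (cyc hM hy j)) := by
    intro j
    simp only [cyc, ho, map_sum, red, MonoidAlgebra.mapRingHom_single]
    refine Finset.sum_congr rfl fun l _ => ?_
    show _ = MonoidAlgebra.mapDomain f _
    rw [MonoidAlgebra.mapDomain_single, map_pow]
    congr 2
    exact Subtype.ext (by simp only [cycC, ho])
  simp only [phi, dif_pos hfy, dif_pos hy, ho, Finset.mul_sum]
  rw [Finset.sum_comm]
  refine Finset.sum_congr rfl fun j _ => ?_
  rw [hmap]
  show zeta (orderOf y) ^ j * ((ρ (red hM (cyc hM hy j))).rank : ℂ) = _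
  rw [rank_eq DH.surj DH.nil ρ (fun l => (DH.idemE l).map (red hM)) DH.hπE
    ((cyc_idem hy j).map (red hM)), Nat.cast_sum, Finset.mul_sum]
  refine Finset.sum_congr rfl fun l _ => ?_
  push_cast
  ring

/-- The group algebra of a group of order prime to `p` is semisimple. -/
theorem pi_injective (hp : ¬ p ∣ Nat.card G) (D : Dec hM G) : Function.Injective D.π := by
  haveI := TwoCharacters.charP_residue hM
  rw [injective_iff_map_eq_zero]
  intro x hx
  refine MonoidAlgebra.coeff_injective (Finsupp.ext fun g => ?_)
  set z : KAlg hM G := x * MonoidAlgebra.single g⁻¹ 1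
  obtain ⟨n, hn⟩ := isNilpotent_of_map D.nil (x := z) (by rw [map_mul, hx, zero_mul])
  let Q : Matrix G G (Residue hM) := Matrix.of fun a b => z.coeff (a * b⁻¹)
  have hQn : IsNilpotent Q := by
    refine ⟨n, ?_⟩
    have hpow : ∀ m : ℕ, Q ^ m = Matrix.of fun a b => (z ^ m).coeff (a * b⁻¹) := by
      intro m
      induction m with
      | zero =>
        ext a b
        simp [Matrix.one_apply, MonoidAlgebra.one_def, Finsupp.single_apply, eq_comm, mul_inv_eq_one]
      | succ m ih =>
        rw [pow_succ, ih, pow_succ]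
        ext a b
        rw [Matrix.mul_apply, Matrix.of_apply, coeff_mul_sum]
        refine Fintype.sum_equiv ((Equiv.inv G).trans (Equiv.mulLeft a)) _ _ fun l => ?_
        simp [Q, mul_assoc]
    rw [hpow, hn]
    ext a b
    simp
  have htr := (Matrix.isNilpotent_trace_of_isNilpotent hQn).eq_zero
  simp only [Matrix.trace, Matrix.diag_apply, Q, Matrix.of_apply, mul_inv_cancel, Finset.sum_const,
    Finset.card_univ, nsmul_eq_mul, z, MonoidAlgebra.coeff_mul_single_apply, mul_one, inv_inv,
    one_mul] at htr
  refine (mul_eq_zero.1 htr).resolve_left fun h => hp ?_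
  rwa [CharP.cast_eq_zero_iff (Residue hM) p, ← Nat.card_eq_fintype_card] at h

/-- In a group of order prime to `p` the Brauer characters are ordinary characters. -/
theorem phi_isCharacter (hp : ¬ p ∣ Nat.card G) (D : Dec hM G) (j : Fin D.r) :
    IsCharacter G (phi D j) := by
  have hreg : ∀ y : G, IsPRegular p y := fun y h => hp (h.trans (orderOf_dvd_natCard y))
  let C : Fin D.r → Fin D.r → ℕ := fun a b => ∑ χ : IrrCharacter G, mult D χ a * mult D χ b
  have hθ : ∀ a y, theta D a y = ∑ b, (C a b : ℂ) * phi D b y := by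
    intro a y
    simp only [theta, apply_eq_sum_phi D _ (hreg y), C, Nat.cast_sum, Nat.cast_mul, Finset.mul_sum,
      Finset.sum_mul, mul_assoc]
    exact Finset.sum_comm
  -- dimensions
  have hcard : Nat.card G = ∑ i, D.d i ^ 2 := by
    have e := (LinearEquiv.ofBijective D.π.toLinearMap ⟨pi_injective hp D, D.surj⟩).finrank_eq
    rw [(coord hM (G := G)).finrank_eq, Module.finrank_pi, ← Nat.card_eq_fintype_card,
      Module.finrank_pi_fintype] at e
    rw [e]
    exact Finset.sum_congr rfl fun i _ => by
      rw [Module.finrank_matrix, Fintype.card_fin, Module.finrank_self, mul_one, sq]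
  have hdeg : ∀ χ : IrrCharacter G, charDegree (χ : G → ℂ) = ∑ i, D.d i * mult D χ i := fun χ => by
    have h := apply_one_eq D χ
    rw [irr_one_eq] at h
    exact_mod_cast h
  have hsq : ∑ a, D.d a * ∑ b, C a b * D.d b = Nat.card G := by
    apply Nat.cast_injective (R := ℂ)
    have h := sum_irr_mul_inv (G := G) 1 1
    simp only [mul_one, mul_inv_cancel, Finset.filter_true, Finset.card_univ, inv_one,
      ← Nat.card_eq_fintype_card] at h
    rw [← h]
    simp only [irr_one_eq, hdeg, C]
    push_cast
    simp only [Finset.mul_sum, Finset.sum_mul]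
    conv_rhs => rw [Finset.sum_comm]
    refine Finset.sum_congr rfl fun a _ => ?_
    rw [Finset.sum_comm]
    exact Finset.sum_congr rfl fun b _ => Finset.sum_congr rfl fun χ _ => by ring
  have hC1 : ∀ a, 1 ≤ C a a := fun a => by
    obtain ⟨χ, hχ⟩ := exists_mult_pos D a
    exact (Finset.single_le_sum (fun ψ _ => Nat.zero_le (mult D ψ a * mult D ψ a))
      (Finset.mem_univ χ)).trans' (Nat.mul_pos hχ hχ)
  have hd : ∀ a, 0 < D.d a := fun a => Nat.pos_of_ne_zero (NeZero.ne _)
  have hge : ∀ a ∈ (Finset.univ : Finset (Fin D.r)), D.d a ^ 2 ≤ D.d a * ∑ b, C a b * D.d b := fun a _ => by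
    rw [sq]
    refine Nat.mul_le_mul_left _ (le_trans ?_ (Finset.single_le_sum (fun b _ => Nat.zero_le (C a b * D.d b))
      (Finset.mem_univ a)))
    exact Nat.le_mul_of_pos_left _ (hC1 a)
  have heq := (Finset.sum_eq_sum_iff_of_le hge).1 (hcard.symm.trans hsq.symm) j (Finset.mem_univ j)
  rw [sq] at heq
  have h1 : D.d j = ∑ b, C j b * D.d b := Nat.eq_of_mul_eq_mul_left (hd j) heq
  rw [← Finset.add_sum_erase _ _ (Finset.mem_univ j)] at h1
  have hjj := Nat.le_mul_of_pos_left (D.d j) (hC1 j)
  have h2 : ∑ b ∈ Finset.univ.erase j, C j b * D.d b = 0 := by omega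
  have h3 : C j j * D.d j = D.d j := by omega
  have hδ : ∀ b, C j b = if b = j then 1 else 0 := fun b => by
    by_cases hb : b = j
    · subst hb
      rw [if_pos rfl]
      exact Nat.eq_of_mul_eq_mul_right (hd b) (by rw [h3, one_mul])
    · rw [if_neg hb]
      have := (Finset.sum_eq_zero_iff.1 h2) b (by simp [hb])
      exact (mul_eq_zero.1 this).resolve_right (hd b).ne'
  have hfin : phi D j = theta D j := by
    funext y
    rw [hθ, Finset.sum_eq_single j]
    · rw [hδ, if_pos rfl, Nat.cast_one, one_mul]
    · intro b _ hb; rw [hδ, if_neg hb, Nat.cast_zero, zero_mul]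
    · simp
  rw [hfin]
  exact isCharacter_theta D j

/-- A Brauer character restricted to a subgroup of order prime to `p` is a character. -/
theorem phi_restrict_isCharacter {H : Type u} [Group H] [Fintype H] (hp : ¬ p ∣ Nat.card H)
    (D : Dec hM G) (f : H →* G) (hf : Function.Injective f) (i : Fin D.r) :
    IsCharacter H fun y => phi D i (f y) := by
  obtain ⟨DH⟩ := nonempty_dec hM H
  obtain ⟨c, hc⟩ := phi_comap DH D f hf i
  have e : (fun y => phi D i (f y)) = ∑ j, c j • phi DH j := by
    funext y
    rw [hc y fun h => hp (h.trans (orderOf_dvd_natCard y))]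
    simp [Finset.sum_apply]
  rw [e]
  exact Char.isCharacter_sum _ _ fun j _ => Char.IsCharacter.nsmul (phi_isCharacter hp DH j) _

end CfsgLib.Blocks.BrauerDegree
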