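import Cfsg.Agent.Lib.Blocks.BrauerDegree.Basic
import Cfsg.Agent.Lib.Blocks.Section

/-!
# The projective characters

The character `∑ χ (mult χ i) • χ` vanishes off the regular elements, so its degree is a multiple of
the `p`-part of the order; some multiplicity is positive.
-/

set_option autoImplicit false
set_option linter.unusedSectionVars false
set_option maxHeartbeats 1000000
set_option synthInstance.maxHeartbeats 200000

namespace CfsgLib.Blocks.BrauerDegree

open Cfsg CfsgLib.Blocks CfsgLib.Blocks.ResidueAlgebra CfsgLib.Blocks.TwoCharacters CfsgLib.BrouePuig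
open scoped Classical ComplexConjugate

universe u

variable {p : ℕ} {M : Ideal AlgInt} {hM : IsPModular p M} {G : Type u} [Group G] [Fintype G]
  (D : Dec hM G)

/-- The character of the projective cover. -/
noncomputable def theta (i : Fin D.r) (g : G) : ℂ :=
  ∑ χ : IrrCharacter G, (mult D χ i : ℂ) * (χ : G → ℂ) g

theorem isCharacter_theta (i : Fin D.r) : IsCharacter G (theta D i) := by
  have h : theta D i = ∑ χ : IrrCharacter G, mult D χ i • (χ : G → ℂ) := by
    funext g
    simp [theta, Finset.sum_apply]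
  rw [h]
  exact Char.isCharacter_sum _ _ fun χ _ => Char.IsCharacter.nsmul (Char.isCharacter_irr χ) _

theorem theta_eq_sum_coeff (i : Fin D.r) (g : G) :
    theta D i g = ∑ u : G, ((((D.E i).coeff (u * g⁻¹ * u⁻¹)) : localSubring hM) : ℂ) := by
  simp only [theta, ← val_E, val, Finset.sum_mul]
  rw [Finset.sum_comm]
  calc ∑ h, ∑ χ : IrrCharacter G, (((D.E i).coeff h : localSubring hM) : ℂ) * (χ : G → ℂ) h
        * (χ : G → ℂ) g
      = ∑ h, (((D.E i).coeff h : localSubring hM) : ℂ)
          * ((Finset.univ.filter fun u : G => u * h * u⁻¹ = g⁻¹).card : ℂ) := by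
        refine Finset.sum_congr rfl fun h _ => ?_
        rw [← sum_irr_mul_inv, Finset.mul_sum]
        exact Finset.sum_congr rfl fun χ _ => by rw [inv_inv, mul_assoc]
    _ = ∑ u : G, ((((D.E i).coeff (u⁻¹ * g⁻¹ * u)) : localSubring hM) : ℂ) := by
        simp only [Finset.natCast_card_filter, Finset.mul_sum, mul_ite, mul_one, mul_zero]
        rw [Finset.sum_comm]
        refine Finset.sum_congr rfl fun u _ => ?_
        rw [Finset.sum_eq_single (u⁻¹ * g⁻¹ * u)]
        · rw [if_pos (by simp [mul_assoc])]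
        · intro h _ hne
          rw [if_neg fun e => hne (by rw [← e]; simp [mul_assoc])]
        · simp
    _ = _ := Fintype.sum_equiv (Equiv.inv G) _ _ fun u => by simp

theorem theta_eq_zero_of_dvd (i : Fin D.r) {g : G} (hg : p ∣ orderOf g) : theta D i g = 0 := by
  rw [theta_eq_sum_coeff]
  refine sum_conj_eq_zero_of_idempotent hM (a := fun x => (((D.E i).coeff x : localSubring hM) : ℂ))
    (fun x => ((D.E i).coeff x).2) (fun x => ?_) (w := g⁻¹) (by rwa [orderOf_inv])
  have := congrArg (fun z : LAlg hM G => ((z.coeff x : localSubring hM) : ℂ)) (D.idemE i).eq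
  simp only [coeff_mul_eq, AddSubmonoidClass.coe_finsetSum, MulMemClass.coe_mul] at this
  exact this

theorem theta_one (i : Fin D.r) :
    theta D i 1 = (Nat.card G : ℂ) * ((((D.E i).coeff 1) : localSubring hM) : ℂ) := by
  rw [theta_eq_sum_coeff]
  simp [Nat.card_eq_fintype_card]

theorem theta_one_nat (i : Fin D.r) :
    theta D i 1 = ((∑ χ : IrrCharacter G, mult D χ i * charDegree (χ : G → ℂ) : ℕ) : ℂ) := by
  push_cast
  exact Finset.sum_congr rfl fun χ _ => by rw [irr_one_eq]

theorem exists_mult_pos (i : Fin D.r) : ∃ χ : IrrCharacter G, 0 < mult D χ i := by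
  by_contra h
  push Not at h
  have h1 : theta D i 1 = 0 := Finset.sum_eq_zero fun χ _ => by
    rw [Nat.le_zero.1 (h χ), Nat.cast_zero, zero_mul]
  rw [theta_one, mul_eq_zero, or_iff_right CfsgLib.Char.card_ne_zero] at h1
  set a : G → ℂ := fun x => (((D.E i).coeff x : localSubring hM) : ℂ) with ha
  set Q : Matrix G G ℂ := Matrix.of fun x y => a (x * y⁻¹) with hQ
  have hQR : ∀ x y, MemLocalRing M (Q x y) := fun x y => ((D.E i).coeff _).2
  have hid : Q * Q = Q := by
    ext x y
    rw [Matrix.mul_apply]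
    have h2 := congrArg (fun z : LAlg hM G => ((z.coeff (x * y⁻¹) : localSubring hM) : ℂ)) (D.idemE i).eq
    simp only [coeff_mul_eq, AddSubmonoidClass.coe_finsetSum, MulMemClass.coe_mul] at h2
    show ∑ l, a (x * l⁻¹) * a (l * y⁻¹) = a (x * y⁻¹)
    refine Eq.trans ?_ h2
    refine Fintype.sum_equiv ((Equiv.inv G).trans (Equiv.mulLeft x)) _ _ fun l => ?_
    simp [a, mul_assoc]
  have htr : Q.trace = 0 := by simp [Matrix.trace, Q, a, h1]
  have hr := rank_resid_eq hM Q hQR hid
  rw [htr, Nat.cast_eq_zero, Matrix.rank, Submodule.finrank_eq_zero, LinearMap.range_eq_bot] at hr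
  have hred : red hM (D.E i) = 0 := by
    refine MonoidAlgebra.coeff_injective (Finsupp.ext fun x => ?_)
    have h3 := congrFun (LinearMap.congr_fun hr (Pi.single 1 1)) x
    rw [Matrix.mulVecLin_apply, Matrix.mulVec_single_one] at h3
    rw [coeff_red_resid]
    simpa [Q, a] using h3
  have h4 := D.hπE i
  rw [hred, map_zero] at h4
  have := congrFun (congrFun (congrFun h4 i) 0) 0
  simp at this

theorem theta_one_pos (i : Fin D.r) : 0 < ∑ χ : IrrCharacter G, mult D χ i * charDegree (χ : G → ℂ) := by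
  obtain ⟨χ, hχ⟩ := exists_mult_pos D i
  exact Finset.sum_pos' (fun _ _ => Nat.zero_le _)
    ⟨χ, Finset.mem_univ _, Nat.mul_pos hχ (charDegree_pos χ)⟩

theorem pPow_dvd_theta_one [Fact p.Prime] (i : Fin D.r) :
    p ^ (Nat.card G).factorization p ∣ ∑ χ : IrrCharacter G, mult D χ i * charDegree (χ : G → ℂ) := by
  obtain ⟨P⟩ : Nonempty (Sylow p G) := inferInstance
  obtain ⟨n, hn⟩ := Char.IsCharacter.classInner_nat
    (Char.IsCharacter.restrict (isCharacter_theta D i) (P : Subgroup G))
    (Char.isCharacter_one (G := (P : Subgroup G)))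
  rw [Cfsg.classInner, Finset.sum_eq_single (1 : (P : Subgroup G))] at hn
  · simp only [Pi.one_apply, map_one, mul_one, OneMemClass.coe_one, theta_one_nat] at hn
    rw [inv_mul_eq_iff_eq_mul₀ CfsgLib.Char.card_ne_zero, ← Nat.cast_mul, Nat.cast_inj,
      P.card_eq_multiplicity] at hn
    exact hn ▸ dvd_mul_right _ _
  · intro s _ hs
    rw [theta_eq_zero_of_dvd D i, zero_mul]
    obtain ⟨k, hk⟩ := IsPGroup.iff_orderOf.1 P.isPGroup' s
    rw [Subgroup.orderOf_coe, hk]
    exact dvd_pow_self p fun h0 => hs (orderOf_eq_one_iff.1 (by rw [hk, h0, pow_zero]))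
  · simp

end CfsgLib.Blocks.BrauerDegree
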