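import Cfsg.Agent.Lib.Blocks.TwoCharacters
import Mathlib.LinearAlgebra.Matrix.Rank
import Mathlib.RingTheory.Idempotents

/-!
# Ranks of idempotents in matrix representations

If an algebra has a nilpotent ideal with a split semisimple quotient and `E i` are idempotents lifting
matrix units, then the rank of any idempotent in any matrix representation is a combination of the
ranks of the `E i`, the coefficients being its ranks in the components.
-/

set_option autoImplicit false
set_option linter.unusedSectionVars false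
set_option maxHeartbeats 1000000

namespace CfsgLib.Blocks.BrauerDegree

open scoped Classical
open CfsgLib.Blocks.TwoCharacters

variable {k A : Type*} [Field k] [Ring A] [Algebra k A] {r : ℕ} {d : Fin r → ℕ} [∀ i, NeZero (d i)]
  {π : A →ₐ[k] Π i, Matrix (Fin (d i)) (Fin (d i)) k} (hπ : Function.Surjective π) {N : ℕ}
  (hN : (LinearMap.ker π.toLinearMap) ^ N = ⊥) {n : ℕ}
  (ρ : A →ₐ[k] Matrix (Fin n) (Fin n) k)

include hN in
/-- A family of vectors moved into itself by the nilpotent ideal is zero. -/
theorem eq_zero_of_ker {ι : Type*} [Fintype ι] (w : ι → Fin n → k) (j : ι → ι → A)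
    (hj : ∀ q q', π (j q q') = 0) (hw : ∀ q, w q = ∑ q', Matrix.mulVec (ρ (j q q')) (w q')) :
    w = 0 := by
  have key : ∀ m, m ≤ N → ∀ a ∈ (LinearMap.ker π.toLinearMap) ^ (N - m), ∀ q,
      Matrix.mulVec (ρ a) (w q) = 0 := by
    intro m
    induction m with
    | zero =>
      intro _ a ha q
      rw [Nat.sub_zero, hN, Submodule.mem_bot] at ha
      rw [ha, map_zero, Matrix.zero_mulVec]
    | succ m ih =>
      intro hm a ha q
      rw [hw q, Matrix.mulVec_sum]
      refine Finset.sum_eq_zero fun q' _ => ?_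
      rw [Matrix.mulVec_mulVec, ← map_mul]
      refine ih (by omega) _ ?_ q'
      rw [show N - m = N - (m + 1) + 1 by omega, pow_succ]
      exact Submodule.mul_mem_mul ha (LinearMap.mem_ker.2 (hj q q'))
  funext q
  have h := key N le_rfl 1 (by rw [Nat.sub_self, pow_zero]; exact Submodule.one_le.1 le_rfl) q
  rwa [map_one, Matrix.one_mulVec] at h

theorem mem_range_iff {m : ℕ} {P : Matrix (Fin m) (Fin m) k} (hP : P * P = P) {v : Fin m → k} :
    v ∈ LinearMap.range P.mulVecLin ↔ Matrix.mulVec P v = v := by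
  refine ⟨?_, fun h => ⟨v, h⟩⟩
  rintro ⟨w, rfl⟩
  rw [Matrix.mulVecLin_apply, Matrix.mulVec_mulVec, hP]

/-- An idempotent matrix factors through its rank. -/
theorem exists_factor_idem {m : ℕ} {P : Matrix (Fin m) (Fin m) k} (hP : P * P = P) :
    ∃ (X : Matrix (Fin m) (Fin P.rank) k) (Y : Matrix (Fin P.rank) (Fin m) k),
      X * Y = P ∧ Y * X = 1 ∧ P * X = X ∧ Y * P = Y := by
  let b : Module.Basis (Fin P.rank) k (LinearMap.range P.mulVecLin) := Module.finBasis k _
  let X : Matrix (Fin m) (Fin P.rank) k := Matrix.of fun a l => (b l : Fin m → k) a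
  let Y : Matrix (Fin P.rank) (Fin m) k := LinearMap.toMatrix'
    (b.equivFun.toLinearMap ∘ₗ P.mulVecLin.rangeRestrict)
  have hX : ∀ c, Matrix.mulVec X c = ((b.equivFun.symm c : LinearMap.range P.mulVecLin) : Fin m → k) := by
    intro c
    funext a
    rw [b.equivFun_symm_apply, Submodule.coe_sum, Finset.sum_apply]
    show ∑ l, X a l * c l = _
    exact Finset.sum_congr rfl fun l _ => by
      rw [Submodule.coe_smul, Pi.smul_apply, smul_eq_mul, mul_comm]; rfl
  have hY : ∀ v, Matrix.mulVec Y v = b.equivFun (P.mulVecLin.rangeRestrict v) := fun v => by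
    rw [← Matrix.toLin'_apply, Matrix.toLin'_toMatrix']; rfl
  have hXY : X * Y = P := Matrix.ext_of_mulVec_single fun c => by
    rw [← Matrix.mulVec_mulVec, hY, hX, LinearEquiv.symm_apply_apply]; rfl
  have hYX : Y * X = 1 := Matrix.ext_of_mulVec_single fun c => by
    rw [← Matrix.mulVec_mulVec, hY, Matrix.one_mulVec]
    refine (b.equivFun.symm_apply_eq).1 (Subtype.ext ?_) |>.symm
    show _ = Matrix.mulVec P (Matrix.mulVec X (Pi.single c 1))
    rw [hX, (mem_range_iff hP).1 (b.equivFun.symm (Pi.single c 1)).2]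
  refine ⟨X, Y, hXY, hYX, ?_, ?_⟩
  · calc P * X = X * Y * X := by rw [hXY]
      _ = X := by rw [Matrix.mul_assoc, hYX, Matrix.mul_one]
  · calc Y * P = Y * (X * Y) := by rw [hXY]
      _ = Y := by rw [← Matrix.mul_assoc, hYX, Matrix.one_mul]

include hπ hN

/-- Lifts of the matrix units. -/
theorem exists_units : ∃ E : Fin r → A, (∀ i, IsIdempotentElem (E i)) ∧
    ∀ i, π (E i) = Pi.single i (Matrix.single 0 0 1) := by
  have h : ∀ i : Fin r, ∃ e : A, IsIdempotentElem e ∧ π e = Pi.single i (Matrix.single 0 0 1) :=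
    fun i => by
      obtain ⟨e, h1, h2⟩ := exists_isIdempotentElem_eq_of_ker_isNilpotent π.toRingHom
        (fun x hx => isNilpotent_of_map hN (RingHom.mem_ker.1 hx))
        (Pi.single i (Matrix.single 0 0 1)) (RingHom.mem_range.2 (hπ _)) (by
          show _ * _ = _
          rw [← Pi.single_mul, Matrix.single_mul_single_same, mul_one])
      exact ⟨e, h1, h2⟩
  choose E h1 h2 using h
  exact ⟨E, h1, h2⟩

/-- The rank of an idempotent in any representation. -/
theorem rank_eq {E : Fin r → A} (hE : ∀ i, IsIdempotentElem (E i))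
    (hπE : ∀ i, π (E i) = Pi.single i (Matrix.single 0 0 1)) {ε : A} (hε : IsIdempotentElem ε) :
    (ρ ε).rank = ∑ i, (π ε i).rank * (ρ (E i)).rank := by
  have hP : ∀ i, π ε i * π ε i = π ε i := fun i => by
    rw [← Pi.mul_apply, ← map_mul, hε.eq]
  choose X Y hXY hYX hPX hYP using fun i => exists_factor_idem (hP i)
  let Q := Σ i : Fin r, Fin (π ε i).rank
  let cX : (q : Q) → Matrix (Fin (d q.1)) (Fin (d q.1)) k := fun q =>
    Matrix.vecMulVec (fun a => X q.1 a q.2) (Pi.single 0 1)
  let cY : (q : Q) → Matrix (Fin (d q.1)) (Fin (d q.1)) k := fun q =>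
    Matrix.vecMulVec (Pi.single 0 1) (fun a => Y q.1 q.2 a)
  choose a ha using fun q : Q => hπ (Pi.single q.1 (cX q))
  choose b hb using fun q : Q => hπ (Pi.single q.1 (cY q))
  let x : Q → A := fun q => ε * a q * E q.1
  let y : Q → A := fun q => E q.1 * b q * ε
  have h00 : ∀ i, (Matrix.single 0 0 1 : Matrix (Fin (d i)) (Fin (d i)) k)
      = Matrix.vecMulVec (Pi.single 0 1) (Pi.single 0 1) := fun i => by
    ext u v
    rw [Matrix.vecMulVec_apply, Matrix.single_apply, Pi.single_apply, Pi.single_apply]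
    by_cases hu : u = 0 <;> by_cases hv : v = 0 <;> simp [hu, hv, eq_comm]
  have hπx : ∀ q : Q, π (x q) = Pi.single q.1 (cX q) := fun q => by
    funext i
    simp only [x, map_mul, Pi.mul_apply, ha, hπE]
    rcases eq_or_ne i q.1 with rfl | hi
    · have h1 : π ε q.1 * cX q = cX q := by
        rw [Matrix.mul_vecMulVec]
        exact congrArg (Matrix.vecMulVec · _) (funext fun u => congrFun (congrFun (hPX q.1) u) q.2)
      rw [Pi.single_eq_same, Pi.single_eq_same, h1, h00, Matrix.vecMulVec_mul_vecMulVec]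
      simp [cX]
    · simp [Pi.single_eq_of_ne hi]
  have hπy : ∀ q : Q, π (y q) = Pi.single q.1 (cY q) := fun q => by
    funext i
    simp only [y, map_mul, Pi.mul_apply, hb, hπE]
    rcases eq_or_ne i q.1 with rfl | hi
    · have h1 : cY q * π ε q.1 = cY q := by
        rw [Matrix.vecMulVec_mul]
        exact congrArg (Matrix.vecMulVec _) (funext fun u => congrFun (congrFun (hYP q.1) q.2) u)
      have h2 : (Matrix.single 0 0 1 : Matrix (Fin (d q.1)) (Fin (d q.1)) k) * cY q = cY q := by
        rw [h00, Matrix.vecMulVec_mul_vecMulVec]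
        simp [cY]
      rw [Pi.single_eq_same, Pi.single_eq_same, h2, h1]
    · simp [Pi.single_eq_of_ne hi]
  have hyx : ∀ q q', π ((if q = q' then E q.1 else 0) - y q * x q') = 0 := by
    rintro ⟨i, l⟩ ⟨i', l'⟩
    rw [map_sub, map_mul, hπx, hπy, sub_eq_zero]
    rcases eq_or_ne i i' with rfl | hi
    · rw [← Pi.single_mul, Matrix.vecMulVec_mul_vecMulVec]
      have hdot : (fun u => Y i l u) ⬝ᵥ (fun u => X i u l') = if l = l' then 1 else 0 := by
        have := congrFun (congrFun (hYX i) l) l'
        rwa [Matrix.mul_apply, Matrix.one_apply] at this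
      by_cases hl : l = l'
      · subst hl
        rw [if_pos rfl, hπE, hdot, if_pos rfl, one_smul, h00]
      · rw [if_neg (show ¬ ((⟨i, l⟩ : Q) = ⟨i, l'⟩) from fun h => hl (eq_of_heq (Sigma.mk.inj_iff.1 h).2)),
          map_zero]
        simp [hdot, hl]
    · rw [if_neg (show ¬ ((⟨i, l⟩ : Q) = ⟨i', l'⟩) from fun h => hi (Sigma.mk.inj_iff.1 h).1), map_zero]
      funext j
      rcases eq_or_ne j i with rfl | hj
      · simp [Pi.single_eq_of_ne hi]
      · simp [Pi.single_eq_of_ne hj]
  have hxy : π (ε - ∑ q, x q * y q) = 0 := by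
    rw [map_sub, map_sum, sub_eq_zero]
    simp only [map_mul, hπx, hπy, ← Pi.single_mul, cX, cY, Matrix.vecMulVec_mul_vecMulVec,
      single_dotProduct, Pi.single_eq_same, mul_one, one_smul, MulOpposite.op_one]
    rw [Fintype.sum_sigma]
    funext i
    rw [Finset.sum_apply, Finset.sum_eq_single i]
    · rw [Finset.sum_apply]
      simp only [Pi.single_eq_same]
      conv_lhs => rw [← hXY i]
      ext u v
      simp [Matrix.mul_apply, Matrix.sum_apply, Matrix.vecMulVec_apply]
    · intro j _ hj
      rw [Finset.sum_apply]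
      exact Finset.sum_eq_zero fun l _ => Pi.single_eq_of_ne (Ne.symm hj) _
    · simp
  -- the two maps
  have hρE : ∀ i, ρ (E i) * ρ (E i) = ρ (E i) := fun i => by rw [← map_mul, (hE i).eq]
  have hρε : ρ ε * ρ ε = ρ ε := by rw [← map_mul, hε.eq]
  let W := (q : Q) → LinearMap.range (ρ (E q.1)).mulVecLin
  let R := LinearMap.range (ρ ε).mulVecLin
  let F : R →ₗ[k] W := LinearMap.pi fun q =>
    ((ρ (y q)).mulVecLin.comp R.subtype).codRestrict _ fun v => by
      rw [mem_range_iff (hρE q.1), LinearMap.comp_apply, Matrix.mulVecLin_apply,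
        Matrix.mulVec_mulVec, ← map_mul]
      simp only [y, ← mul_assoc, (hE q.1).eq]
  let G₀ : W →ₗ[k] (Fin n → k) :=
    ∑ q, (ρ (x q)).mulVecLin ∘ₗ (LinearMap.range (ρ (E q.1)).mulVecLin).subtype ∘ₗ LinearMap.proj q
  let G : W →ₗ[k] R := G₀.codRestrict R fun w => by
    rw [mem_range_iff hρε]
    simp only [G₀, LinearMap.sum_apply, LinearMap.comp_apply, Matrix.mulVecLin_apply, Matrix.mulVec_sum,
      Matrix.mulVec_mulVec]
    refine Finset.sum_congr rfl fun q _ => ?_
    rw [← map_mul]
    simp only [x, ← mul_assoc, hε.eq]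
  have hF : Function.Injective F := by
    rw [injective_iff_map_eq_zero]
    intro v hv
    refine Subtype.ext (congrFun (eq_zero_of_ker hN ρ (fun _ : Unit => (v : Fin n → k))
      (fun _ _ => ε - ∑ q, x q * y q) (fun _ _ => hxy) fun _ => ?_) ())
    rw [Fintype.sum_unique, map_sub, Matrix.sub_mulVec, (mem_range_iff hρε).1 v.2, map_sum,
      Matrix.sum_mulVec, Finset.sum_eq_zero, sub_zero]
    intro q _
    have : Matrix.mulVec (ρ (y q)) (v : Fin n → k) = 0 := congrArg Subtype.val (congrFun hv q)
    rw [map_mul, ← Matrix.mulVec_mulVec, this, Matrix.mulVec_zero]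
  have hG : Function.Injective G := by
    rw [injective_iff_map_eq_zero]
    intro w hw
    have hw0 : ∑ q', Matrix.mulVec (ρ (x q')) (w q' : Fin n → k) = 0 := by
      have := congrArg Subtype.val hw
      simp [G, G₀] at this
      exact this
    have := eq_zero_of_ker hN ρ (fun q => (w q : Fin n → k))
      (fun q q' => (if q = q' then E q.1 else 0) - y q * x q') hyx fun q => ?_
    · exact funext fun q => Subtype.ext (congrFun this q)
    · simp only [map_sub, Matrix.sub_mulVec, Finset.sum_sub_distrib, map_mul, ← Matrix.mulVec_mulVec]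
      rw [← Matrix.mulVec_sum, hw0, Matrix.mulVec_zero, sub_zero, Finset.sum_eq_single q]
      · rw [if_pos rfl, (mem_range_iff (hρE q.1)).1 (w q).2]
      · intro q' _ hne
        rw [if_neg (Ne.symm hne), map_zero, Matrix.zero_mulVec]
      · simp
  have h1 : Module.finrank k R ≤ Module.finrank k W := LinearMap.finrank_le_finrank_of_injective hF
  have h2 : Module.finrank k W ≤ Module.finrank k R := LinearMap.finrank_le_finrank_of_injective hG
  have h3 : Module.finrank k W = ∑ i, (π ε i).rank * (ρ (E i)).rank := by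
    rw [Module.finrank_pi_fintype, Fintype.sum_sigma]
    refine Finset.sum_congr rfl fun i _ => ?_
    show ∑ _l : Fin (π ε i).rank, (ρ (E i)).rank = _
    rw [Finset.sum_const, Finset.card_univ, Fintype.card_fin, smul_eq_mul]
  rw [← h3]
  exact le_antisymm h1 h2

end CfsgLib.Blocks.BrauerDegree
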