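import Cfsg.Agent.Lib.Blocks.BrauerDegree.PPrime
import Cfsg.Agent.Lib.CharDeep.Brauer

/-!
# The degrees of the simple modules of a block are integral combinations of character degrees

Brauer's characterization makes the Brauer character, composed with the regular part, a generalized
character; its expansion and the independence of the Brauer characters give the combination.
-/

set_option autoImplicit false
set_option linter.unusedSectionVars false
set_option maxHeartbeats 1000000
set_option synthInstance.maxHeartbeats 200000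

namespace CfsgLib.Blocks.BrauerDegree

open Cfsg CfsgLib.Blocks CfsgLib.Blocks.ResidueAlgebra CfsgLib.Blocks.TwoCharacters CfsgLib.BrouePuig
open scoped Classical

universe u

variable {p : ℕ} [Fact p.Prime] {M : Ideal AlgInt} {hM : IsPModular p M} {G : Type u} [Group G]
  [Fintype G] (D : Dec hM G)

/-- Brauer characters are linearly independent on regular elements. -/
theorem phi_independent {a : Fin D.r → ℂ} (ha : ∀ y, IsPRegular p y → ∑ i, a i * phi D i y = 0) :
    a = 0 := by
  haveI := TwoCharacters.charP_residue hM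
  let T : (Fin D.r → Residue hM) →ₗ[Residue hM] ({y : G // IsPRegular p y} → Residue hM) :=
    Matrix.toLin' (Matrix.of fun y i => (D.π (MonoidAlgebra.single (y : G) 1) i).trace)
  have hT : LinearMap.ker T = ⊥ := by
    rw [LinearMap.ker_eq_bot']
    intro b hb
    refine RegularBasis.tr_independent D.surj fun g => ?_
    obtain ⟨x, y, -, hxy, hc, hy, ⟨j, hj⟩, -, -⟩ := exists_isPPart (G := G) hM.1 g
    have e : ∀ i, RegularBasis.tr D.π i g = RegularBasis.tr D.π i y := fun i => by
      rw [← RegularBasis.traceFun_compRep, ← hxy, hc.eq]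
      exact SimpleTrace.traceFun_mul_pElem p _ hc.symm (n := j) (by rw [← hj, pow_orderOf_eq_one])
    refine Eq.trans ?_ (congrFun hb ⟨y, hy⟩)
    simp only [T, Matrix.toLin'_apply, Matrix.mulVec, dotProduct, Matrix.of_apply]
    exact Finset.sum_congr rfl fun i _ => by rw [e, mul_comm]; rfl
  obtain ⟨L, hL⟩ := T.exists_leftInverse_of_injective hT
  let Lm := LinearMap.toMatrix' L
  let Φ : Matrix {y : G // IsPRegular p y} (Fin D.r) ℂ := Matrix.of fun y i => phi D i (y : G)
  let Ls : Matrix (Fin D.r) {y : G // IsPRegular p y} ℂ := Lm.map (sec hM)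
  have hdet : (Ls * Φ).det ≠ 0 := by
    refine det_ne_zero_of_congr_one hM _ fun u v => ?_
    have hR : ∀ y, MemLocalRing M (Ls u y * Φ y v) := fun y =>
      LR.mul hM (sec_LR hM _) (phi_LR D _ _)
    have h1R : MemLocalRing M ((1 : Matrix (Fin D.r) (Fin D.r) ℂ) u v) := by
      rw [Matrix.one_apply]; split <;> [exact LR.one hM; exact LR.zero hM]
    have hs : MemLocalRing M ((Ls * Φ) u v) := LR.sum hM fun y _ => hR y
    rw [← resid_eq_zero_iff hM (LR.sub hM hs h1R), sub_eq_add_neg, resid_add hM hs (LR.neg h1R)]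
    have hneg : resid hM (-(1 : Matrix (Fin D.r) (Fin D.r) ℂ) u v)
        = -resid hM ((1 : Matrix (Fin D.r) (Fin D.r) ℂ) u v) :=
      eq_neg_of_add_eq_zero_left (by
        rw [← resid_add hM (LR.neg h1R) h1R, neg_add_cancel, resid_zero])
    rw [hneg, ← sub_eq_add_neg, sub_eq_zero, Matrix.mul_apply, resid_sum hM _ fun y _ => hR y]
    have hid : (L ∘ₗ T) = LinearMap.id := hL
    have h2 := congrFun (congrFun (congrArg LinearMap.toMatrix' hid) u) v
    rw [LinearMap.toMatrix'_comp, LinearMap.toMatrix'_id, Matrix.mul_apply] at h2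
    rw [show resid hM ((1 : Matrix (Fin D.r) (Fin D.r) ℂ) u v)
      = (1 : Matrix (Fin D.r) (Fin D.r) (Residue hM)) u v by
        rw [Matrix.one_apply, Matrix.one_apply]; split <;> [exact resid_one hM; exact resid_zero hM],
      ← h2]
    refine Finset.sum_congr rfl fun y _ => ?_
    show resid hM (sec hM (Lm u y) * phi D v (y : G)) = _
    rw [resid_mul hM (sec_LR hM _) (phi_LR D _ _), resid_sec, resid_phi D v y.2]
    simp [T, Lm, LinearMap.toMatrix'_toLin']
  have hΦa : Matrix.mulVec Φ a = 0 := funext fun y => by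
    rw [Pi.zero_apply, ← ha y y.2]
    show ∑ i, Φ y i * a i = _
    exact Finset.sum_congr rfl fun i _ => mul_comm _ _
  refine Matrix.eq_zero_of_mulVec_eq_zero hdet ?_
  rw [← Matrix.mulVec_mulVec, hΦa, Matrix.mulVec_zero]

/-- The Brauer character at the regular part is a generalized character. -/
theorem exists_exponent_generalized (i : Fin D.r) :
    ∃ e : ℕ, (∀ y : G, IsPRegular p y → y ^ e = y) ∧
      IsGeneralizedCharacter G fun g => phi D i (g ^ e) := by
  obtain ⟨e, e', -, hp1, hreg, hord, -⟩ := qPart_exponents (G := G) p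
  have hfix : ∀ y : G, IsPRegular p y → y ^ e = y := fun y hy =>
    (hreg y (dvd_ordCompl_of_not_dvd hM.1 hy)).1
  refine ⟨e, hfix, CharDeep.Brauer.isGeneralizedCharacter_of_elementary (fun g h => ?_)
    fun q hq E hE => Char.IsCharacter.isGeneralizedCharacter ?_⟩
  · show phi D i ((h * g * h⁻¹) ^ e) = phi D i (g ^ e)
    rw [conj_pow, phi_conj]
  obtain ⟨x, hx, hxq, k, hk⟩ := hE
  haveI := Fact.mk hq
  haveI : (Subgroup.zpowers x).Normal :=
    ⟨fun n hn g => by
      obtain ⟨j, rfl⟩ := Subgroup.mem_zpowers_iff.1 hn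
      have hc : g * x ^ j = x ^ j * g := Subgroup.mem_center_iff.1 (Subgroup.zpow_mem _ hx j) g
      rw [hc, mul_inv_cancel_right]
      exact Subgroup.zpow_mem_zpowers x j⟩
  -- every element is a power of `x` times a `q`-element
  have hdec : ∀ h : E, ∃ (c s : E), c ∈ Subgroup.zpowers x ∧ (∃ j, orderOf s = q ^ j) ∧ h = c * s := by
    intro h
    obtain ⟨s, c, -, hsc, hcomm, hc, ⟨j, hj⟩, -, -⟩ := exists_isPPart (G := E) hq h
    refine ⟨c, s, ?_, ⟨j, hj⟩, by rw [← hsc, hcomm.eq]⟩
    rw [← QuotientGroup.eq_one_iff, ← orderOf_eq_one_iff]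
    refine Nat.eq_one_of_dvd_coprimes (a := orderOf c) (b := q ^ k) ?_
      (orderOf_map_dvd (QuotientGroup.mk' (Subgroup.zpowers x)) c) ?_
    · exact Nat.Coprime.pow_right _ ((hq.coprime_iff_not_dvd.2 hc).symm)
    · rw [← hk]
      exact orderOf_dvd_natCard _
  have hmul : ∀ h h' : E, (h * h') ^ e = h ^ e * h' ^ e := by
    intro h h'
    obtain ⟨c, s, hc, hs, rfl⟩ := hdec h
    obtain ⟨c', s', hc', hs', rfl⟩ := hdec h'
    have hcen : ∀ c : E, c ∈ Subgroup.zpowers x → ∀ z : E, Commute c z := fun c hc z => by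
      obtain ⟨j, rfl⟩ := Subgroup.mem_zpowers_iff.1 hc
      exact (Subgroup.mem_center_iff.1 (Subgroup.zpow_mem _ hx j) z).symm
    -- the `q`-elements form a subgroup
    have hQ : ∃ j, orderOf (s * s') = q ^ j := by
      obtain ⟨c'', s'', hc'', hs'', he⟩ := hdec (s * s')
      obtain ⟨P⟩ : Nonempty (Sylow q E) := inferInstance
      have hN : ∀ t : E, (∃ j, orderOf t = q ^ j) → t ∈ (P : Subgroup E) := by
        intro t ht
        obtain ⟨j, hj⟩ := ht
        have hsurj : ∀ g : E, ∃ c ∈ Subgroup.zpowers x, ∃ s ∈ (P : Subgroup E), g = c * s := by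
          intro g
          have hidx : ((Subgroup.zpowers x) ⊔ (P : Subgroup E)).index = 1 := by
            refine Nat.eq_one_of_dvd_coprimes (a := q ^ k) (b := (P : Subgroup E).index) ?_
              (hk ▸ Subgroup.index_dvd_of_le le_sup_left) (Subgroup.index_dvd_of_le le_sup_right)
            exact Nat.Coprime.pow_left _ (hq.coprime_iff_not_dvd.2 P.not_dvd_index)
          have hg : g ∈ (Subgroup.zpowers x) ⊔ (P : Subgroup E) := by
            rw [Subgroup.index_eq_one.1 hidx]; trivial
          obtain ⟨c, hc, s, hs, rfl⟩ := Subgroup.mem_sup_of_normal_left.1 hg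
          exact ⟨c, hc, s, hs, rfl⟩
        haveI : (P : Subgroup E).Normal := ⟨fun n hn g => by
          obtain ⟨c, hc, s, hs, rfl⟩ := hsurj g
          have h1 : c * s * n * (c * s)⁻¹ = s * n * s⁻¹ := by
            rw [show c * s * n * (c * s)⁻¹ = c * (s * n * s⁻¹) * c⁻¹ by simp [mul_assoc],
              (hcen c hc _).eq, mul_inv_cancel_right]
          rw [h1]
          exact Subgroup.mul_mem _ (Subgroup.mul_mem _ hs hn) (Subgroup.inv_mem _ hs)⟩
        haveI := P.unique_of_normal inferInstance
        obtain ⟨P', hP'⟩ := (IsPGroup.of_card (n := j) (by rw [Nat.card_zpowers, hj]) :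
          IsPGroup q (Subgroup.zpowers t)).exists_le_sylow
        rw [Subsingleton.elim P P']
        exact hP' (Subgroup.mem_zpowers t)
      obtain ⟨j, hj⟩ := IsPGroup.iff_orderOf.1 P.isPGroup'
        ⟨s * s', Subgroup.mul_mem _ (hN s hs) (hN s' hs')⟩
      exact ⟨j, (orderOf_injective (P : Subgroup E).subtype Subtype.val_injective _).trans hj⟩
    have hpow : ∀ t : E, (∃ j, orderOf t = q ^ j) → (t : G) ^ e = if q = p then 1 else (t : G) := by
      intro t ⟨j, hj⟩
      rw [← Subgroup.orderOf_coe] at hj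
      split_ifs with hqp
      · exact (hp1 _ (dvd_ordProj_of_pow hM.1 (hqp ▸ hj))).1
      · refine hfix _ fun hd => hqp ?_
        rw [hj] at hd
        exact ((Nat.prime_dvd_prime_iff_eq hM.1 hq).1 (hM.1.dvd_of_dvd_pow hd)).symm
    refine Subtype.ext ?_
    rw [show c * s * (c' * s') = c * c' * (s * s') from (hcen c' hc' s).symm.mul_mul_mul_comm c s',
      (hcen _ (Subgroup.mul_mem _ hc hc') _).mul_pow, (hcen c hc s).mul_pow, (hcen c' hc' s').mul_pow,
      (hcen c hc c').mul_pow]
    have hQ' := hpow _ hQ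
    rw [Subgroup.coe_mul] at hQ'
    simp only [Subgroup.coe_mul, SubgroupClass.coe_pow, hpow _ hs, hpow _ hs', hQ']
    have h3 : Commute ((c' : G) ^ e) (if q = p then 1 else (s : G)) := by
      split_ifs
      · exact Commute.one_right _
      · exact ((hcen c' hc' s).map E.subtype).pow_left e
    split_ifs with hqp
    · simp
    · rw [if_neg hqp] at h3
      rw [mul_assoc, mul_assoc, ← mul_assoc (s : G), ← h3.eq, mul_assoc]
  let Ψ : E →* E := { toFun := fun h => h ^ e, map_one' := one_pow e, map_mul' := hmul }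
  let A : Subgroup E := Ψ.range
  have hA : ¬ p ∣ Nat.card A := fun hd => by
    obtain ⟨⟨a, ha⟩, hao⟩ := exists_prime_orderOf_dvd_card' p hd
    obtain ⟨h, rfl⟩ := ha
    have hao' : orderOf ((h ^ e : E)) = p :=
      (orderOf_injective A.subtype Subtype.val_injective _).trans hao
    rw [← Subgroup.orderOf_coe] at hao'
    refine Nat.not_dvd_ordCompl hM.1 (Nat.card_pos (α := G)).ne' ?_
    refine (dvd_of_eq hao'.symm).trans ?_
    show orderOf (((h ^ e : E)) : G) ∣ _
    rw [SubgroupClass.coe_pow]
    exact hord (h : G)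
  exact Char.IsCharacter.comp (phi_restrict_isCharacter hA D (E.subtype.comp A.subtype)
    (Subtype.val_injective.comp Subtype.val_injective) i) Ψ.rangeRestrict

variable {B : Set (IrrCharacter G)} (hB : IsPBlock M B)

include hB

/-- The simple modules of a block only occur in its characters. -/
theorem mult_eq_zero (χ : IrrCharacter G) (i : Fin D.r)
    (h : ¬ (χ ∈ B ↔ D.π (idem hM B) i = 1)) : mult D χ i = 0 := by
  let eB : LAlg hM G := MonoidAlgebra.ofCoeff (Finsupp.equivFunOnFinite.symm fun g =>
    (⟨blockCoeff B g, blockCoeff_LR hM hB g⟩ : localSubring hM))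
  have hcoe : ∀ g, ((eB.coeff g : localSubring hM) : ℂ) = blockCoeff B g := fun g => by simp [eB]
  have hid : IsIdempotentElem eB := MonoidAlgebra.coeff_injective (Finsupp.ext fun g => Subtype.ext (by
    rw [coeff_mul_eq, AddSubmonoidClass.coe_finsetSum]
    simp only [MulMemClass.coe_mul, hcoe]
    rw [blockCoeff_conv, Set.inter_self]))
  have hval : val hM χ eB = blockInd B χ * (χ : G → ℂ) 1 := by
    have h := sum_classFun_mul_char χ (blockCoeff_isClassFunction B) 1
    rw [omega_blockCoeff] at h
    simp only [one_mul] at h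
    simp only [val, hcoe]
    exact h
  have hred : red hM eB = idem hM B := MonoidAlgebra.coeff_injective (Finsupp.ext fun g => by
    rw [coeff_red_resid, hcoe, coeff_idem])
  have h01 := eq_zero_or_one D.dne D.surj (fun a => idem_commute hM a) (idem_mul_self hM hB)
  have hv := val_idem D χ hid
  rw [hval, hred, apply_one_eq D χ] at hv
  have hrank : ∀ j, ((D.π (idem hM B) j).rank : ℂ) = if D.π (idem hM B) j = 1 then (D.d j : ℂ) else 0 :=
    fun j => by
      split_ifs with hj
      · rw [hj, Matrix.rank_one, Fintype.card_fin]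
      · rw [(h01 j).resolve_right hj, Matrix.rank_zero, Nat.cast_zero]
  simp only [hrank, ite_mul, zero_mul] at hv
  by_contra hne
  have hterm : D.d i * mult D χ i ≠ 0 := mul_ne_zero (NeZero.ne _) hne
  by_cases hχ : χ ∈ B
  · have hi : D.π (idem hM B) i ≠ 1 := fun e => h (iff_of_true hχ e)
    rw [blockInd_of_mem hχ, one_mul, ← Finset.sum_filter,
      ← Finset.sum_filter_add_sum_filter_not Finset.univ (fun j => D.π (idem hM B) j = 1),
      add_eq_left] at hv
    have h2 : ∑ j ∈ Finset.univ.filter (fun j => ¬ D.π (idem hM B) j = 1), D.d j * mult D χ j = 0 := by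
      exact_mod_cast hv
    exact hterm (Finset.sum_eq_zero_iff.1 h2 i (Finset.mem_filter.2 ⟨Finset.mem_univ _, hi⟩))
  · have hi : D.π (idem hM B) i = 1 := by
      by_contra e
      exact h (iff_of_false hχ e)
    rw [blockInd_of_notMem hχ, zero_mul, ← Finset.sum_filter] at hv
    have h2 : ∑ j ∈ Finset.univ.filter (fun j => D.π (idem hM B) j = 1), D.d j * mult D χ j = 0 := by
      exact_mod_cast hv.symm
    exact hterm (Finset.sum_eq_zero_iff.1 h2 i (Finset.mem_filter.2 ⟨Finset.mem_univ _, hi⟩))

/-- The degree of a simple module of a block is an integral combination of the degrees in it. -/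
theorem dvd_dim {i : Fin D.r} (hi : D.π (idem hM B) i = 1) {g : ℕ}
    (hg : ∀ χ ∈ B, g ∣ charDegree (χ : G → ℂ)) : g ∣ D.d i := by
  obtain ⟨e, he, hgen⟩ := exists_exponent_generalized D i
  obtain ⟨hcl, hint⟩ := Char.isGeneralizedCharacter_iff.1 hgen
  choose c hc using fun χ : IrrCharacter G => hint χ χ.2
  have hexp : ∀ y, IsPRegular p y → phi D i y = ∑ j, (∑ χ, (c χ : ℂ) * (mult D χ j : ℂ)) * phi D j y := by
    intro y hy
    have h1 := congrFun (Char.IsClassFunction.eq_sum_irr hcl) y
    simp only [he y hy, Finset.sum_apply, Pi.smul_apply, smul_eq_mul, hc] at h1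
    rw [h1]
    simp only [apply_eq_sum_phi D _ hy, Finset.mul_sum, Finset.sum_mul, mul_assoc]
    exact Finset.sum_comm
  have hδ := phi_independent D (a := fun j => (∑ χ, (c χ : ℂ) * (mult D χ j : ℂ)) - if j = i then 1 else 0)
    fun y hy => by
      simp only [sub_mul, Finset.sum_sub_distrib, ite_mul, one_mul, zero_mul, Finset.sum_ite_eq',
        Finset.mem_univ, if_true]
      rw [← hexp y hy, sub_self]
  have hsum : ∀ j, D.π (idem hM B) j = 1 →
      ∑ χ ∈ B.toFinset, (c χ : ℂ) * (mult D χ j : ℂ) = if j = i then 1 else 0 := by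
    intro j hj
    have h1 := congrFun hδ j
    rw [Pi.zero_apply, sub_eq_zero] at h1
    rw [← h1]
    refine Finset.sum_subset (Finset.subset_univ _) fun χ _ hχ => ?_
    rw [mult_eq_zero D hB χ j (fun hiff => hχ (Set.mem_toFinset.2 (hiff.2 hj))), Nat.cast_zero, mul_zero]
  have hd : (D.d i : ℤ) = ∑ χ ∈ B.toFinset, c χ * (charDegree (χ : G → ℂ) : ℤ) := by
    apply Int.cast_injective (α := ℂ)
    push_cast
    symm
    calc ∑ χ ∈ B.toFinset, (c χ : ℂ) * (charDegree (χ : G → ℂ) : ℂ)
        = ∑ j, (D.d j : ℂ) * ∑ χ ∈ B.toFinset, (c χ : ℂ) * (mult D χ j : ℂ) := by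
          simp only [← irr_one_eq, apply_one_eq D, Finset.mul_sum]
          rw [Finset.sum_comm]
          exact Finset.sum_congr rfl fun j _ => Finset.sum_congr rfl fun χ _ => by ring
      _ = ∑ j, (D.d j : ℂ) * if j = i then 1 else 0 := by
          refine Finset.sum_congr rfl fun j _ => congrArg _ ?_
          by_cases hj : D.π (idem hM B) j = 1
          · exact hsum j hj
          · rw [Finset.sum_eq_zero fun χ hχ => by
              rw [mult_eq_zero D hB χ j fun hiff => hj (hiff.1 (Set.mem_toFinset.1 hχ)), Nat.cast_zero,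
                mul_zero], if_neg fun (h : j = i) => hj (by rw [h]; exact hi)]
      _ = _ := by simp
  rw [← Int.natCast_dvd_natCast, hd]
  exact Finset.dvd_sum fun χ hχ =>
    Dvd.dvd.mul_left (Int.natCast_dvd_natCast.2 (hg χ (Set.mem_toFinset.1 hχ))) _

end CfsgLib.Blocks.BrauerDegree
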